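import Mathlib
import Cfsg.Prelude.Def_Classical
import Cfsg.Prelude.Def_Sporadic

set_option autoImplicit false

/-! An odd prime cube exactly dividing the order of an alternating or sporadic group is less than the 2-part. -/

namespace CfsgLib.CubePart

theorem of_list (N : ℕ) (L : List ℕ) (hN : N ≠ 0) (hL : ∀ q ∈ L, q.Prime) (hdvd : N ∣ L.prod ^ 60)
    (hc : ∀ q ∈ L, q = 2 ∨ ¬ q ^ 3 ∣ N ∨ q ^ 4 ∣ N ∨ q ^ 3 < N.gcd (2 ^ 64))
    (p : ℕ) (hp : p.Prime) (hodd : p ≠ 2) (h3 : N.factorization p = 3) :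
    p ^ 3 < 2 ^ N.factorization 2 := by
  have hd3 : p ^ 3 ∣ N := (hp.pow_dvd_iff_le_factorization hN).mpr h3.ge
  have hmem : p ∈ L := by
    obtain ⟨q, hq, hpq⟩ := hp.prime.dvd_prod_iff.mp
      (hp.dvd_of_dvd_pow (((dvd_pow_self p (by norm_num : (3 : ℕ) ≠ 0)).trans hd3).trans hdvd))
    rwa [(Nat.prime_dvd_prime_iff_eq hp (hL q hq)).mp hpq]
  obtain ⟨a, -, ha⟩ := (Nat.dvd_prime_pow Nat.prime_two).mp (Nat.gcd_dvd_right N (2 ^ 64))
  have ha' : a ≤ N.factorization 2 :=
    (Nat.prime_two.pow_dvd_iff_le_factorization hN).mp (ha ▸ Nat.gcd_dvd_left N (2 ^ 64))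
  rcases hc p hmem with h | h | h | h
  · exact absurd h hodd
  · exact absurd hd3 h
  · exact absurd ((hp.pow_dvd_iff_le_factorization hN).mp h) (by omega)
  · exact (ha ▸ h).trans_le (Nat.pow_le_pow_right (by norm_num) ha')

theorem cube_lt_two_pow {p : ℕ} (hp : 5 ≤ p) : p ^ 3 < 2 ^ (2 * p - 2) := by
  induction p, hp using Nat.le_induction with
  | base => norm_num
  | succ p hp ih =>
    rw [show 2 * (p + 1) - 2 = (2 * p - 2) + 2 by omega, pow_add]
    have h1 : (p + 1) ^ 3 ≤ 4 * p ^ 3 := by nlinarith [Nat.mul_le_mul hp hp, sq_nonneg (p : ℤ)]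
    omega

theorem of_factorial (n N : ℕ) (hN : 2 * N = n.factorial) (p : ℕ) (hp : p.Prime) (hodd : p ≠ 2)
    (h3 : N.factorization p = 3) : p ^ 3 < 2 ^ N.factorization 2 := by
  have hN0 : N ≠ 0 := fun h => n.factorial_ne_zero (by rw [← hN, h, mul_zero])
  haveI := Fact.mk hp
  have hv : padicValNat p n.factorial = 3 := by
    rw [← Nat.factorization_def _ hp, ← hN, Nat.factorization_mul two_ne_zero hN0, Finsupp.add_apply, h3,
      Nat.Prime.factorization Nat.prime_two, Finsupp.single_eq_of_ne hodd, zero_add]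
  have hv2 : padicValNat 2 n.factorial = N.factorization 2 + 1 := by
    rw [← Nat.factorization_def _ Nat.prime_two, ← hN, Nat.factorization_mul two_ne_zero hN0, Finsupp.add_apply,
      Nat.Prime.factorization_self Nat.prime_two, add_comm]
  have hn : 3 * p ≤ n := by
    by_contra h
    have hp3 : 3 ≤ p := lt_of_le_of_ne hp.two_le (Ne.symm hodd)
    have hlog : Nat.log p n < 2 := Nat.log_lt_of_lt_pow' (by norm_num) (by nlinarith)
    rw [padicValNat_factorial hlog] at hv
    simp only [show Finset.Ico 1 2 = {1} from rfl, Finset.sum_singleton, pow_one] at hv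
    have : n / p < 3 := Nat.div_lt_of_lt_mul (by omega)
    omega
  have hp5 : 5 ≤ p := by
    by_contra h
    have hp3 : p = 3 := by
      rcases (by omega : p = 0 ∨ p = 1 ∨ p = 2 ∨ p = 3 ∨ p = 4) with rfl | rfl | rfl | rfl | rfl
      all_goals first | rfl | exact absurd hp (by decide) | exact absurd rfl hodd
    subst hp3
    have h9 : 3 ^ 4 ∣ n.factorial := dvd_trans (by decide) (Nat.factorial_dvd_factorial hn)
    have := padicValNat_dvd_iff_le (p := 3) n.factorial_ne_zero |>.mp h9
    omega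
  have hsum : n / 2 + n / 4 ≤ padicValNat 2 n.factorial := by
    rw [padicValNat_factorial (b := n + 1) (Nat.lt_succ_of_le (Nat.log_le_self 2 n))]
    calc n / 2 + n / 4 = ∑ i ∈ Finset.Ico 1 3, n / 2 ^ i := by
          rw [show Finset.Ico 1 3 = {1, 2} from rfl, Finset.sum_insert (by simp), Finset.sum_singleton]
          norm_num
      _ ≤ _ := Finset.sum_le_sum_of_subset (Finset.Ico_subset_Ico le_rfl (by omega))
  exact (cube_lt_two_pow hp5).trans_le (Nat.pow_le_pow_right (by norm_num) (by omega))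

theorem alternating_or_sporadic {G : Type*} [Group G] [Finite G] (hG : Cfsg.IsAlternating G ∨ Cfsg.IsSporadic G)
    (p : ℕ) (hp : p.Prime) (hodd : p ≠ 2) (h3 : (Nat.card G).factorization p = 3) :
    p ^ 3 < 2 ^ (Nat.card G).factorization 2 := by
  rcases hG with ⟨n, hn, ⟨e⟩⟩ | h
  · haveI : Nontrivial (Fin n) := Fin.nontrivial_iff_two_le.mpr (by omega)
    refine of_factorial n _ ?_ p hp hodd h3
    rw [Nat.card_congr e.toEquiv, Nat.card_eq_fintype_card, two_mul_card_alternatingGroup, Fintype.card_perm,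
      Fintype.card_fin]
  · revert h3
    rcases h with h | h | h | h | h | h | h | h | h | h | h | h | h | h | h | h | h | h | h | h | h | h | h | h |
      h | h <;> rw [h.2] <;> intro h3
    all_goals
      refine of_list _ [2, 3, 5, 7, 11, 13, 17, 19, 23, 29, 31, 37, 41, 43, 47, 59, 67, 71] (by norm_num)
        (fun q hq => ?_) (by decide +kernel) (by decide +kernel) p hp hodd h3
      simp only [List.mem_cons, List.not_mem_nil, or_false] at hq
      rcases hq with rfl | rfl | rfl | rfl | rfl | rfl | rfl | rfl | rfl | rfl | rfl | rfl | rfl | rfl | rfl | rfl |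
        rfl | rfl <;> norm_num

end CfsgLib.CubePart
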