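import Mathlib
import Cfsg.Prelude.Def_LieTypeChar
import Cfsg.Agent.Classical.SLBasic
import Cfsg.Agent.Lib.Sp.Card
import Cfsg.Agent.S0280
import Cfsg.Agent.S0292
import Cfsg.Agent.S0293
import Cfsg.Agent.S0294
import Cfsg.Agent.S1059
import Cfsg.Agent.S1062
import Cfsg.Agent.S1063
import Cfsg.Agent.S1064
import Cfsg.Agent.S1065
import Cfsg.Agent.S1067
import Cfsg.Agent.S1163

set_option autoImplicit false

/-! The order of a group of Lie type is bounded by a power of its `p`-part. -/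

namespace CfsgLib.OrderBound

/-- The two bounds, for an order `N`. -/
def Bd (p N : ℕ) : Prop :=
  N < p ^ (3 * N.factorization p) ∧ N ^ 3 < p ^ (8 * N.factorization p)

theorem bd_of_order {p f q N B A c M : ℕ} (hp : p.Prime) (hf : 1 ≤ f) (hq : q = p ^ f)
    (hc : c * M = q ^ N * A) (hpA : ¬ p ∣ A) (hpc : ¬ p ∣ c) (hA : A < q ^ B) (hB : 3 * B ≤ 5 * N) :
    Bd p M ∧ M.factorization p = f * N := by
  have hq1 : 1 < q := hq ▸ Nat.one_lt_pow (by omega) hp.one_lt
  have hA0 : A ≠ 0 := fun h => hpA (h ▸ dvd_zero p)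
  have hc0 : c ≠ 0 := fun h => hpc (h ▸ dvd_zero p)
  have hM0 : M ≠ 0 := fun h => by
    rw [h, mul_zero] at hc
    exact mul_ne_zero (pow_ne_zero N (by omega)) hA0 hc.symm
  have hfac : M.factorization p = f * N := by
    have h := congrArg (fun x => x.factorization p) hc
    simp only [Nat.factorization_mul hc0 hM0, Nat.factorization_mul (pow_ne_zero N (by omega : q ≠ 0)) hA0,
      Finsupp.add_apply, Nat.factorization_eq_zero_of_not_dvd hpA, Nat.factorization_eq_zero_of_not_dvd hpc] at h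
    rw [hq, ← pow_mul, hp.factorization_pow, Finsupp.single_eq_same] at h
    omega
  have hM : M < q ^ (N + B) := by
    calc M ≤ c * M := Nat.le_mul_of_pos_left M (Nat.pos_of_ne_zero hc0)
      _ = q ^ N * A := hc
      _ < q ^ N * q ^ B := Nat.mul_lt_mul_of_pos_left hA (pow_pos (by omega) N)
      _ = _ := (pow_add _ _ _).symm
  refine ⟨⟨?_, ?_⟩, hfac⟩
  · rw [hfac, show 3 * (f * N) = f * (3 * N) by ring, pow_mul, ← hq]
    exact hM.trans_le (Nat.pow_le_pow_right (by omega) (by omega))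
  · rw [hfac, show 8 * (f * N) = f * (8 * N) by ring, pow_mul, ← hq]
    calc M ^ 3 < (q ^ (N + B)) ^ 3 := Nat.pow_lt_pow_left hM (by norm_num)
      _ = q ^ ((N + B) * 3) := (pow_mul _ _ _).symm
      _ ≤ _ := Nat.pow_le_pow_right (by omega) (by omega)

theorem not_dvd_pow_sub_one {p q : ℕ} (hp : p.Prime) (hpq : p ∣ q) (hq : 1 ≤ q) {i : ℕ} (hi : 1 ≤ i) :
    ¬ p ∣ q ^ i - 1 := fun h => by
  have h1 : p ∣ q ^ i := dvd_pow hpq (by omega)
  have h2 : q ^ i = (q ^ i - 1) + 1 := (Nat.sub_add_cancel (Nat.one_le_pow _ _ hq)).symm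
  rw [h2] at h1
  exact hp.not_dvd_one ((Nat.dvd_add_right h).1 h1)

theorem not_dvd_pow_add_one {p q : ℕ} (hp : p.Prime) (hpq : p ∣ q) {i : ℕ} (hi : 1 ≤ i) :
    ¬ p ∣ q ^ i + 1 := fun h =>
  hp.not_dvd_one ((Nat.dvd_add_right (dvd_pow hpq (by omega))).1 h)

theorem sub_one_lt {q i : ℕ} (hq : 1 ≤ q) : q ^ i - 1 < q ^ i :=
  Nat.sub_lt (Nat.one_le_pow _ _ hq) one_pos

/-- `(q^a + 1)(q^b - 1) < q^(a+b)` for `b ≤ a`, `1 ≤ b`. -/
theorem pair_lt {q a b : ℕ} (hq : 1 ≤ q) (hab : b ≤ a) :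
    (q ^ a + 1) * (q ^ b - 1) < q ^ (a + b) := by
  have h1 := Nat.one_le_pow b q hq
  have h2 : q ^ b ≤ q ^ a := Nat.pow_le_pow_right hq hab
  rw [pow_add, Nat.mul_sub, add_mul, mul_one, one_mul]
  have h3 : q ^ a * 1 ≤ q ^ a * q ^ b := Nat.mul_le_mul_left _ h1
  omega

theorem prod_even_lt {q : ℕ} (hq : 1 ≤ q) : ∀ m, 1 ≤ m →
    ∏ i ∈ Finset.range m, (q ^ (2 * (i + 1)) - 1) < q ^ (m * (m + 1)) := by
  intro m hm
  induction m, hm using Nat.le_induction with
  | base => simpa using sub_one_lt (i := 2) hq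
  | succ m hm ih =>
    rw [Finset.prod_range_succ, show (m + 1) * (m + 1 + 1) = m * (m + 1) + 2 * (m + 1) by ring, pow_add]
    exact Nat.mul_lt_mul'' ih (sub_one_lt hq)

theorem prod_even_not_dvd {p q : ℕ} (hp : p.Prime) (hpq : p ∣ q) (hq : 1 ≤ q) (m : ℕ) :
    ¬ p ∣ ∏ i ∈ Finset.range m, (q ^ (2 * (i + 1)) - 1) := fun h => by
  obtain ⟨i, -, hi⟩ := hp.prime.exists_mem_finset_dvd h
  exact not_dvd_pow_sub_one hp hpq hq (by omega) hi

theorem not_dvd_gcd_of {p a b : ℕ} (h : ¬ p ∣ b) : ¬ p ∣ Nat.gcd a b := fun hd =>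
  h (hd.trans (Nat.gcd_dvd_right a b))

/-- The exponent `n(n+1)/2 - 1`. -/
def tri : ℕ → ℕ
  | 0 => 0
  | n + 1 => tri n + (n + 2)

theorem two_mul_tri (k : ℕ) : 2 * tri k + 2 = (k + 1) * (k + 2) := by
  induction k with
  | zero => rfl
  | succ k ih => simp only [tri]; nlinarith

theorem prod_psl_lt {q : ℕ} (hq : 1 ≤ q) : ∀ k, 1 ≤ k →
    ∏ i ∈ Finset.range k, (q ^ (i + 2) - 1) < q ^ tri k := by
  intro k hk
  induction k, hk using Nat.le_induction with
  | base => simpa [tri] using sub_one_lt (i := 2) hq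
  | succ k hk ih =>
    rw [Finset.prod_range_succ, show tri (k + 1) = tri k + (k + 2) from rfl, pow_add q (tri k)]
    exact Nat.mul_lt_mul'' ih (sub_one_lt hq)

theorem prod_psu_lt {q : ℕ} (hq : 1 ≤ q) : ∀ j,
    (∏ i ∈ Finset.range (2 * j + 1), (if Even i then q ^ (i + 2) - 1 else q ^ (i + 2) + 1)) < q ^ tri (2 * j + 1) ∧
      (∏ i ∈ Finset.range (2 * j + 2), (if Even i then q ^ (i + 2) - 1 else q ^ (i + 2) + 1)) < q ^ tri (2 * j + 2) := by
  intro j
  induction j with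
  | zero =>
    refine ⟨by simpa [tri] using sub_one_lt (i := 2) hq, ?_⟩
    simp only [Nat.mul_zero, zero_add, Finset.prod_range_succ, Finset.prod_range_zero, one_mul, tri]
    rw [if_pos (by decide : Even 0), if_neg (by decide : ¬ Even 1), mul_comm]
    exact pair_lt hq (by norm_num : 2 ≤ 3)
  | succ j ih =>
    have e1 : Even (2 * j + 2) := ⟨j + 1, by ring⟩
    have e2 : ¬ Even (2 * j + 3) := by simp [parity_simps]
    constructor
    · rw [show 2 * (j + 1) + 1 = (2 * j + 2) + 1 by ring, Finset.prod_range_succ, if_pos e1,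
        show tri (2 * j + 2 + 1) = tri (2 * j + 2) + (2 * j + 2 + 2) from rfl, pow_add q (tri _)]
      exact Nat.mul_lt_mul'' ih.2 (sub_one_lt hq)
    · rw [show 2 * (j + 1) + 2 = ((2 * j + 2) + 1) + 1 by ring, Finset.prod_range_succ, Finset.prod_range_succ,
        if_pos e1, if_neg e2, mul_assoc,
        show tri (2 * j + 2 + 1 + 1) = tri (2 * j + 2) + ((2 * j + 2 + 1 + 2) + (2 * j + 2 + 2)) by
          simp only [tri]; ring, pow_add q (tri _)]
      refine Nat.mul_lt_mul'' ih.2 ?_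
      rw [mul_comm]
      exact pair_lt hq (by omega)

theorem prod_psu_lt' {q : ℕ} (hq : 1 ≤ q) (k : ℕ) (hk : 1 ≤ k) :
    (∏ i ∈ Finset.range k, (if Even i then q ^ (i + 2) - 1 else q ^ (i + 2) + 1)) < q ^ tri k := by
  rcases Nat.even_or_odd k with ⟨j, hj⟩ | ⟨j, hj⟩
  · rw [show k = 2 * (j - 1) + 2 by omega]; exact (prod_psu_lt hq _).2
  · rw [hj]; exact (prod_psu_lt hq j).1

section Families

variable {F : Type*} [Field F] [Fintype F] {p : ℕ}

theorem field_data (p : ℕ) [CharP F p] : p.Prime ∧ ∃ f, 1 ≤ f ∧ Fintype.card F = p ^ f := by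
  obtain ⟨f, hp, hf⟩ := FiniteField.card F p
  exact ⟨hp, f, f.pos, hf⟩

theorem psl_data (n : ℕ) (hn : 1 ≤ n) :
    Nat.gcd n (Fintype.card F - 1) * Nat.card (Matrix.ProjectiveSpecialLinearGroup (Fin n) F) =
      Fintype.card F ^ (n * (n - 1) / 2) * ∏ i ∈ Finset.range (n - 1), (Fintype.card F ^ (i + 2) - 1) := by
  have h1 : 0 < Fintype.card F - 1 := Nat.sub_pos_of_lt Fintype.one_lt_card
  have h := Cfsg.Agent.Classical.card_psl_mul (F := F) n hn
  obtain ⟨k, rfl⟩ : ∃ k, n = k + 1 := ⟨n - 1, by omega⟩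
  set q := Fintype.card F
  have hprod : ∏ i : Fin (k + 1), (q ^ (k + 1) - q ^ (i : ℕ)) =
      q ^ ((k + 1) * (k + 1 - 1) / 2) * ((q - 1) * ∏ i ∈ Finset.range k, (q ^ (i + 2) - 1)) := by
    rw [Fin.prod_univ_eq_prod_range (fun i => q ^ (k + 1) - q ^ i), Finset.prod_congr rfl fun i hi => show
        q ^ (k + 1) - q ^ i = q ^ i * (q ^ (k + 1 - i) - 1) by
          rw [Nat.mul_sub, mul_one, ← pow_add, Nat.add_sub_cancel' (Finset.mem_range.1 hi).le],
      Finset.prod_mul_distrib, Finset.prod_pow_eq_pow_sum, Finset.sum_range_id,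
      ← Finset.prod_range_reflect (fun i => q ^ (k + 1 - i) - 1), Finset.prod_range_succ']
    congr 1
    rw [mul_comm]
    congr 1
    · rw [show k + 1 - (k + 1 - 1 - 0) = 1 by omega, pow_one]
    · refine Finset.prod_congr rfl fun i hi => ?_
      have := Finset.mem_range.1 hi
      rw [show k + 1 - (k + 1 - 1 - (i + 1)) = i + 2 by omega]
  rw [hprod, mul_left_comm, mul_left_comm (q ^ _) (q - 1)] at h
  simpa using Nat.eq_of_mul_eq_mul_left h1 h

theorem psl_bd [CharP F p] {n : ℕ} (hn : 2 ≤ n) :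
    Bd p (Nat.card (Matrix.ProjectiveSpecialLinearGroup (Fin n) F)) ∨
      n = 2 ∧ Nat.card (Matrix.ProjectiveSpecialLinearGroup (Fin n) F) <
          p ^ (3 * (Nat.card (Matrix.ProjectiveSpecialLinearGroup (Fin n) F)).factorization p) ∧
        Fintype.card F = p ^ (Nat.card (Matrix.ProjectiveSpecialLinearGroup (Fin n) F)).factorization p := by
  obtain ⟨hp, f, hf, hq⟩ := field_data (F := F) p
  have hpq : p ∣ Fintype.card F := hq ▸ dvd_pow_self p (by omega)
  have hq1 : 1 ≤ Fintype.card F := Fintype.card_pos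
  have hc := psl_data (F := F) n (by omega)
  have hpc : ¬ p ∣ Nat.gcd n (Fintype.card F - 1) :=
    not_dvd_gcd_of (by simpa using not_dvd_pow_sub_one hp hpq hq1 (le_refl 1))
  have hpA : ¬ p ∣ ∏ i ∈ Finset.range (n - 1), (Fintype.card F ^ (i + 2) - 1) := fun h => by
    obtain ⟨i, -, hi⟩ := hp.prime.exists_mem_finset_dvd h
    exact not_dvd_pow_sub_one hp hpq hq1 (by omega) hi
  rcases eq_or_lt_of_le hn with rfl | h3
  · refine Or.inr ⟨rfl, ?_⟩
    set M := Nat.card (Matrix.ProjectiveSpecialLinearGroup (Fin 2) F)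
    simp only [show 2 * (2 - 1) / 2 = 1 from rfl, show 2 - 1 = 1 from rfl, Finset.prod_range_one, zero_add] at hc hpA
    have hc0 : Nat.gcd 2 (Fintype.card F - 1) ≠ 0 := fun h => hpc (h ▸ dvd_zero p)
    have hA0 : Fintype.card F ^ 2 - 1 ≠ 0 := fun h => hpA (h ▸ dvd_zero p)
    have hM0 : M ≠ 0 := (Nat.card_pos (α := Matrix.ProjectiveSpecialLinearGroup (Fin 2) F)).ne'
    have hfac : M.factorization p = f := by
      have h := congrArg (fun x => x.factorization p) hc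
      simp only [Nat.factorization_mul hc0 hM0,
        Nat.factorization_mul (pow_ne_zero 1 (by omega : Fintype.card F ≠ 0)) hA0, Finsupp.add_apply,
        Nat.factorization_eq_zero_of_not_dvd hpA, Nat.factorization_eq_zero_of_not_dvd hpc] at h
      rw [hq, ← pow_mul, hp.factorization_pow, Finsupp.single_eq_same] at h
      simpa using h
    refine ⟨?_, hfac.symm ▸ hq⟩
    rw [hfac, mul_comm, pow_mul, ← hq]
    calc M ≤ Nat.gcd 2 (Fintype.card F - 1) * M := Nat.le_mul_of_pos_left M (Nat.pos_of_ne_zero hc0)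
      _ = _ := hc
      _ < Fintype.card F ^ 1 * Fintype.card F ^ 2 :=
          Nat.mul_lt_mul_of_pos_left (sub_one_lt hq1) (pow_pos (by omega) 1)
      _ = _ := by ring
  · obtain ⟨k, rfl⟩ : ∃ k, n = k + 1 := ⟨n - 1, by omega⟩
    refine Or.inl (bd_of_order hp hf hq hc hpA hpc (prod_psl_lt hq1 _ (by omega)) ?_).1
    have h1 := two_mul_tri k
    have h2 : (k + 1) * k / 2 * 2 = (k + 1) * k :=
      Nat.div_mul_cancel (by rw [mul_comm]; exact (Nat.even_mul_succ_self k).two_dvd)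
    simp only [Nat.add_sub_cancel] at *
    nlinarith

theorem psp_bd [CharP F p] {m : ℕ} (hm : 2 ≤ m) : Bd p (Nat.card (Cfsg.PSp m F)) := by
  obtain ⟨hp, f, hf, hq⟩ := field_data (F := F) p
  have hpq : p ∣ Fintype.card F := hq ▸ dvd_pow_self p (by omega)
  refine (bd_of_order hp hf hq (CfsgLib.Sp.card_psp (F := F) rfl (by omega : 1 ≤ m))
    (prod_even_not_dvd hp hpq Fintype.card_pos m) (not_dvd_gcd_of ?_) (prod_even_lt Fintype.card_pos m (by omega))
    (by nlinarith)).1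
  simpa using not_dvd_pow_sub_one hp hpq Fintype.card_pos (le_refl 1)

theorem psu_bd [CharP F p] {n q : ℕ} (hF : Fintype.card F = q ^ 2) (hn : 3 ≤ n) :
    Bd p (Nat.card (Cfsg.PSU n F q)) := by
  obtain ⟨hp, f, hf, hcard⟩ := field_data (F := F) p
  obtain ⟨e, -, hqe⟩ := (Nat.dvd_prime_pow hp).1 (show q ∣ p ^ f from hcard ▸ hF ▸ dvd_pow_self q two_ne_zero)
  have he1 : 1 ≤ e := Nat.one_le_iff_ne_zero.2 fun h => by
    subst h
    rw [hqe, pow_zero, one_pow] at hF
    exact absurd hF Fintype.one_lt_card.ne'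
  have hq1 : 1 ≤ q := hqe ▸ Nat.one_le_pow _ _ hp.pos
  have hpq : p ∣ q := hqe ▸ dvd_pow_self p (by omega)
  obtain ⟨k, rfl⟩ : ∃ k, n = k + 1 := ⟨n - 1, by omega⟩
  have h := Cfsg.Agent.S0280.result hF (k + 1) (by omega)
  rw [Finset.prod_range_succ', if_pos (by decide : Even 0), zero_add, pow_one, mul_left_comm,
    ← mul_assoc (q ^ _), mul_comm (_ * _) (q + 1),
    Finset.prod_congr rfl fun i _ => show (if Even (i + 1) then q ^ (i + 1 + 1) + 1 else q ^ (i + 1 + 1) - 1) =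
      (if Even i then q ^ (i + 2) - 1 else q ^ (i + 2) + 1) by
        by_cases hi : Even i <;> simp [Nat.even_add_one, hi]] at h
  have hc := Nat.eq_of_mul_eq_mul_left (by omega : 0 < q + 1) h
  refine (bd_of_order hp he1 hqe hc (fun hd => ?_) (not_dvd_gcd_of ?_) (prod_psu_lt' hq1 k (by omega)) ?_).1
  · obtain ⟨i, -, hi⟩ := hp.prime.exists_mem_finset_dvd hd
    split_ifs at hi
    · exact not_dvd_pow_sub_one hp hpq hq1 (by omega) hi
    · exact not_dvd_pow_add_one hp hpq (by omega) hi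
  · simpa using not_dvd_pow_add_one hp hpq (le_refl 1)
  · have h1 := two_mul_tri k
    have h2 : (k + 1) * k / 2 * 2 = (k + 1) * k :=
      Nat.div_mul_cancel (by rw [mul_comm]; exact (Nat.even_mul_succ_self k).two_dvd)
    simp only [Nat.add_sub_cancel] at *
    nlinarith

theorem odd_bd [CharP F p] {m : ℕ} (hm : 3 ≤ m) (hodd : Odd (Fintype.card F)) :
    Bd p (Nat.card (Cfsg.POmega F (Cfsg.quadFormOdd m F))) := by
  obtain ⟨hp, f, hf, hq⟩ := field_data (F := F) p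
  have hpq : p ∣ Fintype.card F := hq ▸ dvd_pow_self p (by omega)
  refine (bd_of_order hp hf hq (Cfsg.Agent.S0292.result (F := F) rfl hodd m hm)
    (prod_even_not_dvd hp hpq Fintype.card_pos m) (fun h => ?_) (prod_even_lt Fintype.card_pos m (by omega))
    (by nlinarith)).1
  rw [(Nat.prime_dvd_prime_iff_eq hp Nat.prime_two).1 h] at hpq
  exact (Nat.not_even_iff_odd.2 hodd) (even_iff_two_dvd.2 hpq)

theorem plus_bd [CharP F p] {m : ℕ} (hm : 4 ≤ m) :
    Bd p (Nat.card (Cfsg.POmega F (Cfsg.quadFormPlus m F))) := by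
  obtain ⟨hp, f, hf, hq⟩ := field_data (F := F) p
  have hpq : p ∣ Fintype.card F := hq ▸ dvd_pow_self p (by omega)
  have hc := Cfsg.Agent.S0293.result (F := F) rfl m hm
  rw [mul_assoc] at hc
  obtain ⟨j, rfl⟩ : ∃ j, m = j + 1 := ⟨m - 1, by omega⟩
  simp only [Nat.add_sub_cancel] at hc
  refine (bd_of_order hp hf hq hc ?_ (not_dvd_gcd_of ?_)
    (B := (j + 1) + j * (j + 1)) ?_ (by nlinarith)).1
  · exact hp.prime.not_dvd_mul (not_dvd_pow_sub_one hp hpq Fintype.card_pos (by omega))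
      (prod_even_not_dvd hp hpq Fintype.card_pos j)
  · exact not_dvd_pow_sub_one hp hpq Fintype.card_pos (by omega)
  · rw [pow_add (Fintype.card F) (j + 1) (j * (j + 1))]
    exact Nat.mul_lt_mul'' (sub_one_lt (Fintype.card_pos (α := F))) (prod_even_lt (Fintype.card_pos (α := F)) j (by omega))

theorem minus_bd [CharP F p] {m : ℕ} (hm : 4 ≤ m) (a b : F)
    (hab : ∀ z₁ z₂ : F, z₁ ^ 2 + a * z₁ * z₂ + b * z₂ ^ 2 = 0 → z₁ = 0 ∧ z₂ = 0) :
    Bd p (Nat.card (Cfsg.POmega F (Cfsg.quadFormMinus (m - 1) F a b))) := by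
  obtain ⟨hp, f, hf, hq⟩ := field_data (F := F) p
  have hpq : p ∣ Fintype.card F := hq ▸ dvd_pow_self p (by omega)
  have hq1 : 1 ≤ Fintype.card F := Fintype.card_pos
  have hc := Cfsg.Agent.S0294.result (F := F) rfl m hm a b hab
  rw [mul_assoc] at hc
  refine (bd_of_order hp hf hq hc ?_ (not_dvd_gcd_of ?_) (B := m + (m - 1) * m) ?_ ?_).1
  · exact hp.prime.not_dvd_mul (not_dvd_pow_add_one hp hpq (by omega)) (prod_even_not_dvd hp hpq hq1 (m - 1))
  · exact not_dvd_pow_add_one hp hpq (by omega)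
  · obtain ⟨j, rfl⟩ : ∃ j, m = j + 2 := ⟨m - 2, by omega⟩
    rw [show j + 2 - 1 = j + 1 by omega, Finset.prod_range_succ', zero_add, mul_one]
    have h1 := pair_lt (a := j + 2) (b := 2) hq1 (by omega)
    have h2 : ∏ i ∈ Finset.range j, (Fintype.card F ^ (2 * (i + 1 + 1)) - 1) ≤ Fintype.card F ^ (j * (j + 3)) := by
      calc _ ≤ ∏ i ∈ Finset.range j, Fintype.card F ^ (2 * (i + 1 + 1)) :=
            Finset.prod_le_prod' fun i _ => Nat.sub_le _ _
        _ = Fintype.card F ^ (∑ i ∈ Finset.range j, 2 * (i + 1 + 1)) := Finset.prod_pow_eq_pow_sum _ _ _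
        _ = _ := by
          congr 1
          clear hc hm h1 hab
          induction j with
          | zero => simp
          | succ j ih => rw [Finset.sum_range_succ, ih]; ring
    rw [show j + 2 + (j + 1) * (j + 2) = j * (j + 3) + (j + 2 + 2) by ring,
      pow_add (Fintype.card F) (j * (j + 3)),
      mul_comm (∏ i ∈ Finset.range j, _) (Fintype.card F ^ 2 - 1), ← mul_assoc,
      mul_comm _ (∏ i ∈ Finset.range j, _)]
    exact Nat.mul_lt_mul_of_le_of_lt h2 h1 (pow_pos (by omega) _)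
  · obtain ⟨j, rfl⟩ : ∃ j, m = j + 4 := ⟨m - 4, by omega⟩
    rw [show j + 4 - 1 = j + 3 by omega]
    nlinarith

theorem chev_bd [CharP F p] :
    Bd p (Nat.card ↥(Cfsg.Lie.chevG2.group F)) ∧ Bd p (Nat.card ↥(Cfsg.Lie.chevF4.group F)) ∧
      Bd p (Nat.card ↥(Cfsg.Lie.chevE6.group F)) ∧ Bd p (Nat.card ↥(Cfsg.Lie.chevE7.group F)) ∧
      Bd p (Nat.card ↥(Cfsg.Lie.chevE8.group F)) := by
  obtain ⟨hp, f, hf, hq⟩ := field_data (F := F) p
  have hpq : p ∣ Fintype.card F := hq ▸ dvd_pow_self p (by omega)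
  have hq1 : 1 ≤ Fintype.card F := Fintype.card_pos
  have d : ∀ i, 1 ≤ i → ¬ p ∣ Fintype.card F ^ i - 1 := fun i hi => not_dvd_pow_sub_one hp hpq hq1 hi
  have l : ∀ i, Fintype.card F ^ i - 1 < Fintype.card F ^ i := fun i => sub_one_lt hq1
  have d1 : ¬ p ∣ Fintype.card F - 1 := by simpa using d 1 le_rfl
  have hn := fun {a b : ℕ} (ha : ¬ p ∣ a) (hb : ¬ p ∣ b) => hp.prime.not_dvd_mul ha hb
  refine ⟨?_, ?_, ?_, ?_, ?_⟩
  · have hc := Cfsg.Agent.S1059.result (F := F) rfl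
    rw [mul_assoc, ← one_mul (Nat.card _)] at hc
    refine (bd_of_order hp hf hq hc (hn (d 2 (by norm_num)) (d 6 (by norm_num))) hp.not_dvd_one (B := 2 + 6) ?_
      (by norm_num)).1
    rw [pow_add]
    exact Nat.mul_lt_mul'' (l _) (l _)
  · have hc := Cfsg.Agent.S1062.result (F := F) rfl
    rw [← one_mul (Nat.card _)] at hc
    simp only [mul_assoc] at hc
    refine (bd_of_order hp hf hq hc (hn (d 2 (by norm_num)) (hn (d 6 (by norm_num)) (hn (d 8 (by norm_num))
      (d 12 (by norm_num))))) hp.not_dvd_one (B := 2 + (6 + (8 + 12))) ?_ (by norm_num)).1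
    simp only [pow_add]
    exact Nat.mul_lt_mul'' (l _) (Nat.mul_lt_mul'' (l _) (Nat.mul_lt_mul'' (l _) (l _)))
  · have hc := Cfsg.Agent.S1063.result (F := F) rfl
    simp only [mul_assoc] at hc
    refine (bd_of_order hp hf hq hc (hn (d 2 (by norm_num)) (hn (d 5 (by norm_num)) (hn (d 6 (by norm_num))
      (hn (d 8 (by norm_num)) (hn (d 9 (by norm_num)) (d 12 (by norm_num))))))) (not_dvd_gcd_of d1)
      (B := 2 + (5 + (6 + (8 + (9 + 12))))) ?_ (by norm_num)).1
    simp only [pow_add]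
    exact Nat.mul_lt_mul'' (l _) (Nat.mul_lt_mul'' (l _) (Nat.mul_lt_mul'' (l _) (Nat.mul_lt_mul'' (l _)
      (Nat.mul_lt_mul'' (l _) (l _)))))
  · have hc := Cfsg.Agent.S1064.result (F := F) rfl
    simp only [mul_assoc] at hc
    refine (bd_of_order hp hf hq hc (hn (d 2 (by norm_num)) (hn (d 6 (by norm_num)) (hn (d 8 (by norm_num))
      (hn (d 10 (by norm_num)) (hn (d 12 (by norm_num)) (hn (d 14 (by norm_num)) (d 18 (by norm_num))))))))
      (not_dvd_gcd_of d1) (B := 2 + (6 + (8 + (10 + (12 + (14 + 18)))))) ?_ (by norm_num)).1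
    simp only [pow_add]
    exact Nat.mul_lt_mul'' (l _) (Nat.mul_lt_mul'' (l _) (Nat.mul_lt_mul'' (l _) (Nat.mul_lt_mul'' (l _)
      (Nat.mul_lt_mul'' (l _) (Nat.mul_lt_mul'' (l _) (l _))))))
  · have hc := Cfsg.Agent.S1065.result (F := F) rfl
    rw [← one_mul (Nat.card _)] at hc
    simp only [mul_assoc] at hc
    refine (bd_of_order hp hf hq hc (hn (d 2 (by norm_num)) (hn (d 8 (by norm_num)) (hn (d 12 (by norm_num))
      (hn (d 14 (by norm_num)) (hn (d 18 (by norm_num)) (hn (d 20 (by norm_num)) (hn (d 24 (by norm_num))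
      (d 30 (by norm_num))))))))) hp.not_dvd_one (B := 2 + (8 + (12 + (14 + (18 + (20 + (24 + 30))))))) ?_
      (by norm_num)).1
    simp only [pow_add]
    exact Nat.mul_lt_mul'' (l _) (Nat.mul_lt_mul'' (l _) (Nat.mul_lt_mul'' (l _) (Nat.mul_lt_mul'' (l _)
      (Nat.mul_lt_mul'' (l _) (Nat.mul_lt_mul'' (l _) (Nat.mul_lt_mul'' (l _) (l _)))))))

omit [Fintype F] in
theorem exists_exp [Fintype F] [CharP F p] {q d : ℕ} (hq : IsPrimePow q) (hd : d ≠ 0)
    (hF : Fintype.card F = q ^ d) : p.Prime ∧ ∃ e, 1 ≤ e ∧ q = p ^ e := by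
  obtain ⟨hp, f, hf, hcard⟩ := field_data (F := F) p
  obtain ⟨e, -, hqe⟩ := (Nat.dvd_prime_pow hp).1 (show q ∣ p ^ f from hcard ▸ hF ▸ dvd_pow_self q hd)
  refine ⟨hp, e, Nat.one_le_iff_ne_zero.2 fun h => ?_, hqe⟩
  subst h
  exact hq.ne_one (by simpa using hqe)

theorem d4_bd [CharP F p] {q : ℕ} (hq : IsPrimePow q) (hF : Fintype.card F = q ^ 3) :
    Bd p (Nat.card ↥(Cfsg.Lie.twistedD4 F q)) := by
  obtain ⟨hp, e, he, hqe⟩ := exists_exp (F := F) (p := p) hq three_ne_zero hF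
  have hq2 : 2 ≤ q := hq.two_le
  have hpq : p ∣ q := hqe ▸ dvd_pow_self p (by omega)
  have hc := Cfsg.Agent.S1067.result (K := F) hq hF
  rw [← one_mul (Nat.card _)] at hc
  simp only [mul_assoc] at hc
  refine (bd_of_order hp he hqe hc ?_ hp.not_dvd_one (B := 6 + 10) ?_ (by norm_num)).1
  · refine hp.prime.not_dvd_mul (not_dvd_pow_sub_one hp hpq (by omega) (by norm_num))
      (hp.prime.not_dvd_mul (not_dvd_pow_sub_one hp hpq (by omega) (by norm_num)) fun h => ?_)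
    exact hp.not_dvd_one ((Nat.dvd_add_right (dvd_add (dvd_pow hpq (by norm_num)) (dvd_pow hpq (by norm_num)))).1 h)
  · rw [← mul_assoc, mul_comm (q ^ 2 - 1), mul_assoc, pow_add]
    refine Nat.mul_lt_mul'' (sub_one_lt (by omega)) ?_
    zify [Nat.one_le_pow 2 q (by omega)]
    have h1 : (2 : ℤ) ≤ q := by exact_mod_cast hq2
    nlinarith [pow_le_pow_right₀ (show (1 : ℤ) ≤ q by omega) (show 6 ≤ 8 by norm_num),
      pow_le_pow_right₀ (show (1 : ℤ) ≤ q by omega) (show 2 ≤ 4 by norm_num)]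

theorem sz_bd {m : ℕ} (hm : 1 ≤ m) (hF : Fintype.card F = 2 ^ (2 * m + 1)) :
    Bd 2 (Nat.card ↥(Cfsg.Lie.Sz F (2 ^ (m + 1)))) := by
  have hc := (Cfsg.Agent.S1163.result hm hF).1
  set q := 2 ^ (2 * m + 1) with hq
  have hq2 : 2 ≤ q := Nat.le_self_pow (by omega) 2
  have hpq : 2 ∣ q := dvd_pow_self 2 (by omega)
  rw [← one_mul (Nat.card _), mul_assoc] at hc
  refine (bd_of_order Nat.prime_two (by omega : 1 ≤ 2 * m + 1) hq hc ?_ (by norm_num) (B := 3) ?_ (by norm_num)).1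
  · refine Nat.prime_two.prime.not_dvd_mul ?_ (not_dvd_pow_add_one Nat.prime_two hpq (by norm_num))
    simpa using not_dvd_pow_sub_one Nat.prime_two hpq (by omega) (le_refl 1)
  · have := pair_lt (q := q) (a := 2) (b := 1) (by omega) (by norm_num)
    rwa [pow_one, mul_comm] at this

end Families

end CfsgLib.OrderBound
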