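import Cfsg.Agent.Lib.LieArith53.OrderBoundMain

set_option autoImplicit false

/-! Assembly of the order bound, given the orders of the Ree groups. -/

namespace CfsgLib.OrderBound

theorem f4_bd {m M : ℕ}
    (hc : M = (2 ^ (2 * m + 1)) ^ 12 * (2 ^ (2 * m + 1) - 1) * ((2 ^ (2 * m + 1)) ^ 3 + 1) *
      ((2 ^ (2 * m + 1)) ^ 4 - 1) * ((2 ^ (2 * m + 1)) ^ 6 + 1)) : Bd 2 M := by
  set q := 2 ^ (2 * m + 1) with hq
  have hq2 : 2 ≤ q := Nat.le_self_pow (by omega) 2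
  have hpq : 2 ∣ q := dvd_pow_self 2 (by omega)
  have hc' : 1 * M = q ^ 12 * (((q ^ 3 + 1) * (q ^ 1 - 1)) * ((q ^ 6 + 1) * (q ^ 4 - 1))) := by
    rw [hc, pow_one]; ring
  refine (bd_of_order Nat.prime_two (by omega : 1 ≤ 2 * m + 1) hq hc' ?_ (by norm_num) (B := (3 + 1) + (6 + 4)) ?_
    (by norm_num)).1
  · exact Nat.prime_two.prime.not_dvd_mul
      (Nat.prime_two.prime.not_dvd_mul (not_dvd_pow_add_one Nat.prime_two hpq (by norm_num))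
        (not_dvd_pow_sub_one Nat.prime_two hpq (by omega) (le_refl 1)))
      (Nat.prime_two.prime.not_dvd_mul (not_dvd_pow_add_one Nat.prime_two hpq (by norm_num))
        (not_dvd_pow_sub_one Nat.prime_two hpq (by omega) (by norm_num)))
  · rw [pow_add q (3 + 1) (6 + 4)]
    exact Nat.mul_lt_mul'' (pair_lt (by omega) (by norm_num)) (pair_lt (by omega) (by norm_num))

theorem ree_bd {m M : ℕ}
    (hc : M = (3 ^ (2 * m + 1)) ^ 3 * (3 ^ (2 * m + 1) - 1) * ((3 ^ (2 * m + 1)) ^ 3 + 1)) : Bd 3 M := by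
  set q := 3 ^ (2 * m + 1) with hq
  have hq2 : 2 ≤ q := le_trans (by norm_num) (Nat.le_self_pow (by omega) 3)
  have hpq : 3 ∣ q := dvd_pow_self 3 (by omega)
  have hc' : 1 * M = q ^ 3 * ((q ^ 3 + 1) * (q ^ 1 - 1)) := by
    rw [hc, pow_one]; ring
  refine (bd_of_order Nat.prime_three (by omega : 1 ≤ 2 * m + 1) hq hc' ?_ (by norm_num) (B := 3 + 1) ?_
    (by norm_num)).1
  · exact Nat.prime_three.prime.not_dvd_mul (not_dvd_pow_add_one Nat.prime_three hpq (by norm_num))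
      (not_dvd_pow_sub_one Nat.prime_three hpq (by omega) (le_refl 1))
  · exact pair_lt (by omega) (by norm_num)

theorem bound_lieTypeChar
    (hF4 : ∀ {K : Type} [Field K] [Fintype K] {m : ℕ}, Fintype.card K = 2 ^ (2 * m + 1) →
      Nat.card ↥(Cfsg.Lie.twistedF4 K (2 ^ m)) =
        (2 ^ (2 * m + 1)) ^ 12 * (2 ^ (2 * m + 1) - 1) * ((2 ^ (2 * m + 1)) ^ 3 + 1) *
          ((2 ^ (2 * m + 1)) ^ 4 - 1) * ((2 ^ (2 * m + 1)) ^ 6 + 1))
    (hRee : ∀ {K : Type} [Field K] [Fintype K] {m : ℕ}, Fintype.card K = 3 ^ (2 * m + 1) →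
      Nat.card ↥(Cfsg.Lie.twistedG2 K (3 ^ m)) =
        (3 ^ (2 * m + 1)) ^ 3 * (3 ^ (2 * m + 1) - 1) * ((3 ^ (2 * m + 1)) ^ 3 + 1))
    {G : Type*} [Group G] [Finite G] {p : ℕ} (hG : Cfsg.IsLieTypeChar p G) :
    Nat.card G < p ^ (3 * (Nat.card G).factorization p) ∧
      ((¬ ∃ (F : Type) (_ : Field F) (_ : Fintype F), Fintype.card F = p ^ (Nat.card G).factorization p ∧
          Nonempty (G ≃* Matrix.ProjectiveSpecialLinearGroup (Fin 2) F)) →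
        Nat.card G ^ 3 < p ^ (8 * (Nat.card G).factorization p)) := by
  have key : Bd p (Nat.card G) → Nat.card G < p ^ (3 * (Nat.card G).factorization p) ∧
      ((¬ ∃ (F : Type) (_ : Field F) (_ : Fintype F), Fintype.card F = p ^ (Nat.card G).factorization p ∧
          Nonempty (G ≃* Matrix.ProjectiveSpecialLinearGroup (Fin 2) F)) →
        Nat.card G ^ 3 < p ^ (8 * (Nat.card G).factorization p)) := fun h => ⟨h.1, fun _ => h.2⟩
  rcases hG with ⟨F, _, _, _, n, hn, -, ⟨e⟩⟩ | ⟨F, _, _, _, m, hm, -, ⟨e⟩⟩ | ⟨F, _, _, _, n, q, hF, hn, -, ⟨e⟩⟩ |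
    ⟨F, _, _, _, m, hm, hodd, ⟨e⟩⟩ | ⟨F, _, _, _, m, hm, ⟨e⟩⟩ | ⟨F, _, _, _, m, a, b, hm, hab, ⟨e⟩⟩ |
    ⟨F, _, _, _, h⟩ | ⟨K, _, _, _, q, hq, h⟩ | ⟨rfl, K, _, _, m, hm, hK, ⟨e⟩⟩ | ⟨rfl, K, _, _, m, hm, hK, ⟨e⟩⟩ |
    ⟨rfl, K, _, _, m, hm, hK, ⟨e⟩⟩
  · rcases psl_bd (F := F) (p := p) hn with h | ⟨rfl, h1, h2⟩
    · exact key (bd_congr e h)
    · rw [← Nat.card_congr e.toEquiv] at h1 h2
      exact ⟨h1, fun hne => absurd ⟨F, inferInstance, inferInstance, h2, ⟨e⟩⟩ hne⟩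
  · exact key (bd_congr e (psp_bd hm))
  · exact key (bd_congr e (psu_bd hF hn))
  · exact key (bd_congr e (odd_bd hm hodd))
  · exact key (bd_congr e (plus_bd hm))
  · exact key (bd_congr e (minus_bd hm a b hab))
  · obtain ⟨h1, h2, h3, h4, h5⟩ := chev_bd (F := F) (p := p)
    rcases h with ⟨-, ⟨e⟩⟩ | ⟨⟨e⟩⟩ | ⟨⟨e⟩⟩ | ⟨⟨e⟩⟩ | ⟨⟨e⟩⟩
    exacts [key (bd_congr e h1), key (bd_congr e h2), key (bd_congr e h3), key (bd_congr e h4), key (bd_congr e h5)]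
  · rcases h with ⟨hK, ⟨e⟩⟩ | ⟨hK, ⟨e⟩⟩
    · exact key (bd_congr e (e6_bd hq hK))
    · exact key (bd_congr e (d4_bd hq hK))
  · exact key (bd_congr e (sz_bd hm hK))
  · exact key (bd_congr e (f4_bd (hF4 hK)))
  · exact key (bd_congr e (ree_bd (hRee hK)))

end CfsgLib.OrderBound
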