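import Cfsg.Agent.Lib.LieArith53.OrderBound
import Cfsg.Agent.S1066

set_option autoImplicit false

/-! The order bound over all families of Lie type. -/

namespace CfsgLib.OrderBound

universe u

theorem e6_bd {F : Type*} [Field F] [Fintype F] {p : ℕ} [CharP F p] {q : ℕ} (hq : IsPrimePow q)
    (hF : Fintype.card F = q ^ 2) : Bd p (Nat.card ↥(Cfsg.Lie.twistedE6 F q)) := by
  obtain ⟨hp, e, he, hqe⟩ := exists_exp (F := F) (p := p) hq two_ne_zero hF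
  have hq1 : 1 ≤ q := hq.one_lt.le
  have hpq : p ∣ q := hqe ▸ dvd_pow_self p (by omega)
  have hc := Cfsg.Agent.S1066.result (K := F) hq hF
  have d : ∀ i, 1 ≤ i → ¬ p ∣ q ^ i - 1 := fun i hi => not_dvd_pow_sub_one hp hpq hq1 hi
  have d' : ∀ i, 1 ≤ i → ¬ p ∣ q ^ i + 1 := fun i hi => not_dvd_pow_add_one hp hpq hi
  have hA : (q ^ 2 - 1) * ((q ^ 5 + 1) * ((q ^ 6 - 1) * ((q ^ 8 - 1) * ((q ^ 9 + 1) * (q ^ 12 - 1))))) <
      q ^ ((5 + 2) + ((9 + 6) + (8 + 12))) := by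
    rw [pow_add, pow_add q (9 + 6), pow_add q 8,
      show (q ^ 2 - 1) * ((q ^ 5 + 1) * ((q ^ 6 - 1) * ((q ^ 8 - 1) * ((q ^ 9 + 1) * (q ^ 12 - 1))))) =
        ((q ^ 5 + 1) * (q ^ 2 - 1)) * (((q ^ 9 + 1) * (q ^ 6 - 1)) * ((q ^ 8 - 1) * (q ^ 12 - 1))) by ring]
    exact Nat.mul_lt_mul'' (pair_lt hq1 (by norm_num)) (Nat.mul_lt_mul'' (pair_lt hq1 (by norm_num))
      (Nat.mul_lt_mul'' (sub_one_lt hq1) (sub_one_lt hq1)))
  simp only [mul_assoc] at hc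
  refine (bd_of_order hp he hqe hc ?_ (not_dvd_gcd_of ?_) hA (by norm_num)).1
  · have hn := fun {a b : ℕ} (ha : ¬ p ∣ a) (hb : ¬ p ∣ b) => hp.prime.not_dvd_mul ha hb
    exact hn (d 2 (by norm_num)) (hn (d' 5 (by norm_num)) (hn (d 6 (by norm_num)) (hn (d 8 (by norm_num))
      (hn (d' 9 (by norm_num)) (d 12 (by norm_num))))))
  · simpa using d' 1 le_rfl

theorem bd_congr {p : ℕ} {G H : Type*} [Group G] [Group H] (e : G ≃* H) (h : Bd p (Nat.card H)) :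
    Bd p (Nat.card G) := by rwa [Nat.card_congr e.toEquiv]

end CfsgLib.OrderBound
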