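import Cfsg.Agent.Lib.SpecSp.Blocks

set_option autoImplicit false

/-! An element of order `q^h + 1` in `Sp_2h(q)`, in any characteristic. -/

namespace CfsgLib.SylowTorus

open Matrix CfsgLib.SpecLin

variable {F : Type*} [Field F] [Fintype F]

local notation "Sp[" k "]" => Matrix.symplecticGroup (Fin k) F

/-- An element of order `q^h + 1`. -/
theorem exists_torus_plus_any {h : ℕ} (hh : 1 ≤ h) :
    ∃ T : Sp[h], orderOf T = Fintype.card F ^ h + 1 := by
  classical
  obtain ⟨p, hp⟩ := CharP.exists F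
  have : Fact p.Prime := ⟨CharP.char_is_prime F p⟩
  have : NeZero (2 * h) := ⟨by omega⟩
  let K := FiniteField.Extension F p (2 * h)
  have : Finite K := Module.finite_of_finite F
  have hrank : Module.finrank F K = 2 * h := FiniteField.finrank_extension F p (2 * h)
  have hKcard : Nat.card K = (Fintype.card F ^ h) ^ 2 := by
    rw [FiniteField.natCard_extension, Nat.card_eq_fintype_card, ← pow_mul, mul_comm]
  let σ : K ≃ₐ[F] K := FiniteField.Extension.frob F p (2 * h) ^ h
  have hσ : ∀ x, σ x = x ^ Fintype.card F ^ h := fun x => by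
    rw [FiniteField.Extension.frob_iterate_apply, Nat.card_eq_fintype_card]
  have hσσ : ∀ x, σ (σ x) = x := fun x => by
    have : Fintype K := Fintype.ofFinite K
    rw [hσ, hσ, ← pow_mul, ← sq, ← hKcard, Nat.card_eq_fintype_card, FiniteField.pow_card]
  have hq : 2 ≤ Fintype.card F ^ h := le_trans Fintype.one_lt_card (Nat.le_self_pow (by omega) _)
  obtain ⟨g, hg⟩ := IsCyclic.exists_generator (α := Kˣ)
  have hgo : orderOf g = (Fintype.card F ^ h + 1) * (Fintype.card F ^ h - 1) := by
    rw [orderOf_eq_card_of_forall_mem_zpowers hg, Nat.card_units, hKcard,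
      ← Nat.sq_sub_sq, one_pow]
  have hg1 : σ (g : K) ≠ g := fun he => by
    rw [hσ] at he
    have h1 : (g : K) ^ (Fintype.card F ^ h - 1) = 1 := by
      refine mul_right_cancel₀ g.ne_zero ?_
      rw [one_mul, ← pow_succ, Nat.sub_add_cancel (by omega)]
      exact he
    have h2 := orderOf_dvd_of_pow_eq_one (show g ^ (Fintype.card F ^ h - 1) = 1 from Units.ext (by simpa using h1))
    rw [hgo] at h2
    have h3 := Nat.le_of_dvd (by omega) h2
    have h4 := Nat.mul_le_mul_right (Fintype.card F ^ h - 1) (show 3 ≤ Fintype.card F ^ h + 1 by omega)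
    omega
  set δ : K := (g : K) - σ g with hδ
  have hδ0 : δ ≠ 0 := sub_ne_zero.2 fun e => hg1 e.symm
  have hσδ : σ δ = -δ := by rw [hδ, map_sub, hσσ, neg_sub]
  let B : LinearMap.BilinForm F K := LinearMap.mk₂ F (fun x y => Algebra.trace F K (δ * x * σ y))
    (fun x x' y => by simp [mul_add, add_mul])
    (fun c x y => by simp)
    (fun x y y' => by simp [mul_add])
    (fun c x y => by simp)
  have htr : ∀ x, Algebra.trace F K (σ x) = Algebra.trace F K x := fun x =>
    Algebra.trace_eq_of_algEquiv σ x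
  have hA : B.IsAlt := fun x => by
    have hu : δ * x * σ x = (g : K) * x * σ x - σ ((g : K) * x * σ x) := by
      rw [map_mul, map_mul, hσσ, hδ]; ring
    show Algebra.trace F K (δ * x * σ x) = 0
    rw [hu, map_sub, htr, sub_self]
  have hB : LinearMap.SeparatingLeft B := by
    intro x hx
    by_contra hx0
    have h1 : ∀ z, Algebra.trace F K (δ * x * z) = 0 := fun z => by
      have := hx (σ z)
      simpa [B, hσσ] using this
    have h2 : δ * x = 0 := (traceForm_nondegenerate F K).1 (δ * x) fun z => by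
      rw [Algebra.traceForm_apply]; exact h1 z
    exact hx0 ((mul_eq_zero.1 h2).resolve_left hδ0)
  obtain ⟨e, he⟩ := CfsgLib.Sp.exists_std_equiv B hA hB hrank
  -- norm one element
  set a : Kˣ := g ^ (Fintype.card F ^ h - 1) with ha
  have hao : orderOf a = Fintype.card F ^ h + 1 := by
    rw [ha, orderOf_pow' g (by omega), hgo, Nat.gcd_mul_left_left, Nat.mul_div_cancel _ (by omega)]
  have hnorm : (a : K) * σ (a : K) = 1 := by
    have : a ^ (Fintype.card F ^ h + 1) = 1 := hao ▸ pow_orderOf_eq_one a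
    rw [hσ, ← pow_succ', ← Units.val_pow_eq_pow_val, this, Units.val_one]
  -- multiplication by powers of `a`
  let L : Subgroup Kˣ := Subgroup.zpowers a
  have hL : ∀ b ∈ L, (b : K) * σ (b : K) = 1 := by
    intro b hb
    obtain ⟨j, rfl⟩ := mem_powers_iff_mem_zpowers.2 hb
    change ((a ^ j : Kˣ) : K) * σ ((a ^ j : Kˣ) : K) = 1
    rw [Units.val_pow_eq_pow_val, map_pow, ← mul_pow, hnorm, one_pow]
  let act : Kˣ → (Fin h ⊕ Fin h → F) ≃ₗ[F] (Fin h ⊕ Fin h → F) := fun b =>
    e.trans ((CfsgLib.SpecSp.mulEquivOfUnit (F := F) b).trans e.symm)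
  have hact : ∀ b ∈ L, act b ∈ CfsgLib.Sp.isom (CfsgLib.Sp.sympBilin h F) := by
    intro b hb u v
    rw [CfsgLib.Sp.sympBilin_apply, CfsgLib.Sp.sympBilin_apply, ← he, ← he]
    simp only [act, LinearEquiv.trans_apply, LinearEquiv.apply_symm_apply]
    change Algebra.trace F K (δ * ((b : K) * e u) * σ ((b : K) * e v)) = Algebra.trace F K (δ * e u * σ (e v))
    rw [map_mul σ, show δ * ((b : K) * e u) * (σ (b : K) * σ (e v)) =
      ((b : K) * σ (b : K)) * (δ * e u * σ (e v)) by ring, hL b hb, one_mul]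
  choose T hT using fun b : L => CfsgLib.Sp.exists_toEquiv_eq (hact b.1 b.2)
  let Φ : L →* Sp[h] :=
    { toFun := T
      map_one' := by
        refine CfsgLib.Sp.toEquiv_injective ?_
        rw [hT, map_one]
        exact LinearEquiv.ext fun v => by simp [act, CfsgLib.SpecSp.mulEquivOfUnit]
      map_mul' := fun b c => by
        refine CfsgLib.Sp.toEquiv_injective ?_
        rw [hT, map_mul, hT, hT]
        exact LinearEquiv.ext fun v => by simp [act, CfsgLib.SpecSp.mulEquivOfUnit, mul_assoc] }
  have hΦ : Function.Injective Φ := fun b c hbc => by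
    have h1 : act b.1 = act c.1 := by rw [← hT, ← hT]; exact congrArg _ hbc
    have h2 := LinearEquiv.congr_fun h1 (e.symm 1)
    simp [act, CfsgLib.SpecSp.mulEquivOfUnit] at h2
    exact Subtype.ext (Units.ext h2)
  refine ⟨Φ ⟨a, Subgroup.mem_zpowers a⟩, ?_⟩
  rw [orderOf_injective Φ hΦ, Subgroup.orderOf_mk, hao]

end CfsgLib.SylowTorus
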