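import Cfsg.Agent.Lib.LieArith53.SpTorus
import Cfsg.Agent.Lib.Sp.Card
import Cfsg.Agent.Classical.SLBasic

set_option autoImplicit false

/-! Sylow subgroups of `GL_n(q)`, `SL_n(q)` and `Sp_2n(q)` for primes above `n`. -/

namespace CfsgLib.SylowTorus

open Matrix Polynomial

section Group

variable {G : Type*} [Group G]

theorem sylow_equiv [Finite G] (r : ℕ) [Fact r.Prime] {C : Type*} [Group C] (f : C →* G)
    (hf : Function.Injective f) (hC : Nat.card C = r ^ (Nat.card G).factorization r) (P : Sylow r G) :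
    Nonempty (↥(P : Subgroup G) ≃* C) := by
  have hcard : Nat.card f.range = r ^ (Nat.card G).factorization r := by
    rw [← hC]; exact (Nat.card_congr (MonoidHom.ofInjective hf).toEquiv).symm
  exact ⟨(P.equiv (Sylow.ofCard f.range hcard)).trans (MonoidHom.ofInjective hf).symm⟩

theorem exists_hom_of_dvd_orderOf {m : ℕ} (T : G) (h : m ∣ orderOf T) (hT : orderOf T ≠ 0) :
    ∃ f : Multiplicative (ZMod m) →* G, Function.Injective f := by
  have hx : orderOf (T ^ (orderOf T / m)) = m := orderOf_pow_orderOf_div hT h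
  let e := zmodCyclicMulEquiv (G := Subgroup.zpowers (T ^ (orderOf T / m))) inferInstance
  have hc : Nat.card (Subgroup.zpowers (T ^ (orderOf T / m))) = m := by rw [Nat.card_zpowers, hx]
  rw [hc] at e
  exact ⟨(Subgroup.zpowers (T ^ (orderOf T / m))).subtype.comp e.toMonoidHom,
    Subtype.val_injective.comp e.injective⟩

theorem exists_iterate {Gf : ℕ → Type*} [∀ n, Group (Gf n)] {d : ℕ} {C : Type*} [Group C]
    (glue : ∀ {a b n : ℕ}, a + b = n → Gf a × Gf b →* Gf n)
    (hglue : ∀ {a b n : ℕ} (h : a + b = n), Function.Injective (glue h)) (f : C →* Gf d)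
    (hf : Function.Injective f) :
    ∀ k n : ℕ, k * d ≤ n → ∃ Φ : (Fin k → C) →* Gf n, Function.Injective Φ := by
  intro k
  induction k with
  | zero => exact fun n _ => ⟨1, Function.injective_of_subsingleton _⟩
  | succ k ih =>
    intro n hn
    rw [Nat.succ_mul] at hn
    obtain ⟨Φ, hΦ⟩ := ih (n - d) (by omega)
    let sp : (Fin (k + 1) → C) →* C × (Fin k → C) :=
      { toFun := fun x => (x 0, Fin.tail x), map_one' := rfl, map_mul' := fun _ _ => rfl }
    refine ⟨(glue (show d + (n - d) = n by omega)).comp ((f.prodMap Φ).comp sp), ?_⟩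
    intro x y hxy'
    have hxy : sp x = sp y := hf.prodMap hΦ (hglue _ hxy')
    change (x 0, Fin.tail x) = (y 0, Fin.tail y) at hxy
    rw [Prod.mk.injEq] at hxy
    rw [← Fin.cons_self_tail x, ← Fin.cons_self_tail y, hxy.1, hxy.2]

end Group

section Arith

variable (r : ℕ) [hr : Fact r.Prime] (q : ℕ)

/-- The multiplicative order of `q` modulo `r`. -/
noncomputable abbrev ordq : ℕ := orderOf (q : ZMod r)

/-- The exponent of `r` in `Φ_d(q)`. -/
noncomputable abbrev phiExp : ℕ := padicValNat r ((cyclotomic (ordq r q) ℤ).eval (q : ℤ)).natAbs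

variable {r q}

theorem ordq_pos (hrq : ¬ r ∣ q) : 0 < ordq r q :=
  orderOf_pos_iff.2 (isOfFinOrder_iff_pow_eq_one.2 ⟨r - 1, Nat.sub_pos_of_lt hr.out.one_lt,
    ZMod.pow_card_sub_one_eq_one fun h => hrq ((CharP.cast_eq_zero_iff (ZMod r) r q).1 h)⟩)

theorem dvd_pow_sub_one_iff (hq : 1 ≤ q) (i : ℕ) : r ∣ q ^ i - 1 ↔ ordq r q ∣ i := by
  rw [← Nat.modEq_iff_dvd' (Nat.one_le_pow _ _ hq), ← ZMod.natCast_eq_natCast_iff, Nat.cast_one, Nat.cast_pow,
    eq_comm, orderOf_dvd_iff_pow_eq_one]

theorem pow_sub_one_ne_zero (hq : 2 ≤ q) {i : ℕ} (hi : 1 ≤ i) : q ^ i - 1 ≠ 0 := by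
  have := Nat.one_lt_pow (by omega : i ≠ 0) (by omega : 1 < q)
  omega

theorem factorization_pow_mul_sub_one {Q j : ℕ} (hQ : 2 ≤ Q) (hrQ : r ∣ Q - 1) (hj : ¬ r ∣ j) :
    (Q ^ j - 1).factorization r = (Q - 1).factorization r := by
  have h1 : (∑ i ∈ Finset.range j, Q ^ i) * (Q - 1) = Q ^ j - 1 := geom_sum_mul_of_one_le (by omega) j
  have h2 : ((∑ i ∈ Finset.range j, Q ^ i : ℕ) : ZMod r) = (j : ℕ) := by
    have hQ1 : ((Q : ℕ) : ZMod r) = 1 := by
      rw [show Q = (Q - 1) + 1 by omega, Nat.cast_add, (CharP.cast_eq_zero_iff (ZMod r) r _).2 hrQ, zero_add,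
        Nat.cast_one]
    simp [hQ1]
  have h3 : ¬ r ∣ ∑ i ∈ Finset.range j, Q ^ i := fun h => hj ((CharP.cast_eq_zero_iff (ZMod r) r j).1
    (h2 ▸ (CharP.cast_eq_zero_iff (ZMod r) r _).2 h))
  rw [← h1, Nat.factorization_mul (fun h => h3 (by rw [h]; exact dvd_zero r)) (by omega), Finsupp.add_apply,
    Nat.factorization_eq_zero_of_not_dvd h3, zero_add]

theorem factorization_ordq (hq : 2 ≤ q) (hrq : ¬ r ∣ q) :
    (q ^ ordq r q - 1).factorization r = phiExp r q := by
  set d := ordq r q with hd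
  have hd0 : 0 < d := ordq_pos hrq
  have hprod : (q ^ d - 1 : ℕ) = ∏ e ∈ d.divisors, ((cyclotomic e ℤ).eval (q : ℤ)).natAbs := by
    have h1 := congrArg (fun p : ℤ[X] => (p.eval (q : ℤ)).natAbs) (prod_cyclotomic_eq_X_pow_sub_one hd0 ℤ)
    simp only [eval_prod, eval_sub, eval_pow, eval_X, eval_one] at h1
    rw [show ((q : ℤ) ^ d - 1).natAbs = q ^ d - 1 by
      rw [← Nat.cast_pow, ← Nat.cast_one (R := ℤ), ← Nat.cast_sub (Nat.one_le_pow _ _ (by omega)),
        Int.natAbs_natCast]] at h1
    rw [← h1]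
    exact map_prod Int.natAbsHom _ _
  have hne := pow_sub_one_ne_zero hq hd0
  rw [hprod] at hne
  rw [phiExp, ← Nat.factorization_def _ hr.out, hprod,
    Nat.factorization_prod (fun e he => (Finset.prod_ne_zero_iff.1 hne) e he), Finsupp.finsetSum_apply,
    Finset.sum_eq_single d (fun e he hed => ?_) (fun h => absurd (Nat.mem_divisors_self d hd0.ne') h)]
  refine Nat.factorization_eq_zero_of_not_dvd fun hdvd => ?_
  have he' := Nat.mem_divisors.1 he
  have he0 : 0 < e := Nat.pos_of_dvd_of_pos he'.1 hd0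
  have h1 : ((cyclotomic e ℤ).eval (q : ℤ)).natAbs ∣ q ^ e - 1 := by
    have h2 := eval_dvd (x := (q : ℤ)) (cyclotomic.dvd_X_pow_sub_one e ℤ)
    rw [eval_sub, eval_pow, eval_X, eval_one, ← Nat.cast_pow, ← Nat.cast_one (R := ℤ),
      ← Nat.cast_sub (Nat.one_le_pow _ _ (by omega))] at h2
    exact Int.natAbs_dvd_natAbs.2 h2 |>.trans (by rw [Int.natAbs_natCast])
  have h3 := (dvd_pow_sub_one_iff (by omega) e).1 (hdvd.trans h1)
  exact hed (Nat.dvd_antisymm he'.1 h3)

theorem factorization_pow_sub_one (hq : 2 ≤ q) (hrq : ¬ r ∣ q) {i : ℕ} (hi : ¬ r ∣ i) :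
    (q ^ i - 1).factorization r = if ordq r q ∣ i then phiExp r q else 0 := by
  split_ifs with h
  · obtain ⟨j, rfl⟩ := h
    have h2 : 2 ≤ q ^ ordq r q := Nat.le_trans hq (Nat.le_self_pow (ordq_pos hrq).ne' q)
    rw [pow_mul, factorization_pow_mul_sub_one h2 ((dvd_pow_sub_one_iff (by omega) _).2 dvd_rfl)
      (fun hd => hi (hd.mul_left _)), factorization_ordq hq hrq]
  · exact Nat.factorization_eq_zero_of_not_dvd fun hd => h ((dvd_pow_sub_one_iff (by omega) i).1 hd)

theorem factorization_q_pow (hrq : ¬ r ∣ q) (k : ℕ) : (q ^ k).factorization r = 0 :=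
  Nat.factorization_eq_zero_of_not_dvd fun h => hrq (hr.out.dvd_of_dvd_pow h)

theorem pow_phiExp_dvd (hq : 2 ≤ q) (hrq : ¬ r ∣ q) : r ^ phiExp r q ∣ q ^ ordq r q - 1 :=
  (hr.out.pow_dvd_iff_le_factorization (pow_sub_one_ne_zero hq (ordq_pos hrq))).2 (factorization_ordq hq hrq).ge

end Arith

section Groups

variable {F : Type*} [Field F] [Fintype F]

/-- Block sum of matrices. -/
def msum {a b n : ℕ} (h : a + b = n) :
    Matrix (Fin a) (Fin a) F × Matrix (Fin b) (Fin b) F →* Matrix (Fin n) (Fin n) F where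
  toFun x := (Matrix.fromBlocks x.1 0 0 x.2).submatrix (finSumFinEquiv.trans (finCongr h)).symm
    (finSumFinEquiv.trans (finCongr h)).symm
  map_one' := by rw [Prod.fst_one, Prod.snd_one, Matrix.fromBlocks_one, Matrix.submatrix_one_equiv]
  map_mul' x y := by
    rw [Matrix.submatrix_mul_equiv, Matrix.fromBlocks_multiply]
    simp

omit [Fintype F] in
theorem msum_injective {a b n : ℕ} (h : a + b = n) : Function.Injective (msum (F := F) h) := fun x y hxy => by
  have h' := congrArg (fun T => T.submatrix (finSumFinEquiv.trans (finCongr h)) (finSumFinEquiv.trans (finCongr h))) hxy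
  simp only [msum, MonoidHom.coe_mk, OneHom.coe_mk, Matrix.submatrix_submatrix, Equiv.symm_comp_self,
    Matrix.submatrix_id_id] at h'
  obtain ⟨h1, -, -, h2⟩ := Matrix.fromBlocks_inj.1 h'
  exact Prod.ext h1 h2

/-- Block sum in the general linear group. -/
def gsum {a b n : ℕ} (h : a + b = n) : GL (Fin a) F × GL (Fin b) F →* GL (Fin n) F :=
  (Units.map (msum h)).comp MulEquiv.prodUnits.symm.toMonoidHom

omit [Fintype F] in
theorem gsum_injective {a b n : ℕ} (h : a + b = n) : Function.Injective (gsum (F := F) h) :=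
  (Units.map_injective (msum_injective h)).comp MulEquiv.prodUnits.symm.injective

omit [Fintype F] in
theorem bsum_injective {a b n : ℕ} (h : a + b = n) : Function.Injective (CfsgLib.SpecSp.bsum (F := F) h) := by
  intro x y hxy
  have h' := congrArg (fun T => T.submatrix (CfsgLib.SpecSp.sumIdx h) (CfsgLib.SpecSp.sumIdx h))
    (congrArg Subtype.val hxy)
  simp only [CfsgLib.SpecSp.bsum_val, Matrix.submatrix_submatrix, Equiv.symm_comp_self,
    Matrix.submatrix_id_id] at h'
  obtain ⟨h1, -, -, h2⟩ := Matrix.fromBlocks_inj.1 h'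
  exact Prod.ext (Subtype.ext h1) (Subtype.ext h2)

theorem two_le_card : 2 ≤ Fintype.card F := Fintype.one_lt_card

variable {r : ℕ} [hr : Fact r.Prime]

local notation "qF" => Fintype.card F

theorem exists_gl_hom (hrq : ¬ r ∣ Fintype.card F) (k n : ℕ) (hkn : k * ordq r (Fintype.card F) ≤ n) :
    ∃ Φ : (Fin k → Multiplicative (ZMod (r ^ phiExp r (Fintype.card F)))) →* GL (Fin n) F,
      Function.Injective Φ := by
  obtain ⟨p, hp⟩ := CharP.exists F
  have : Fact p.Prime := ⟨CharP.char_is_prime F p⟩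
  set d := ordq r qF
  have : NeZero d := ⟨(ordq_pos hrq).ne'⟩
  let K := FiniteField.Extension F p d
  have : Finite K := Module.finite_of_finite F
  obtain ⟨f, hf, -⟩ := CfsgLib.SpecLin.exists_unitsHom_of_extension F K (FiniteField.finrank_extension F p d)
  obtain ⟨g, hg⟩ := IsCyclic.exists_generator (α := Kˣ)
  have hinj : Function.Injective f.toHomUnits := fun a b hab => hf (congrArg Units.val hab)
  have hord : orderOf (f.toHomUnits g) = qF ^ d - 1 := by
    rw [orderOf_injective _ hinj, orderOf_eq_card_of_forall_mem_zpowers hg, Nat.card_units,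
      FiniteField.natCard_extension, Nat.card_eq_fintype_card]
  obtain ⟨f0, hf0⟩ := exists_hom_of_dvd_orderOf (m := r ^ phiExp r qF) (f.toHomUnits g)
    (hord ▸ pow_phiExp_dvd two_le_card hrq) (hord ▸ pow_sub_one_ne_zero two_le_card (ordq_pos hrq))
  exact exists_iterate (Gf := fun n => GL (Fin n) F) (fun h => gsum h) (fun h => gsum_injective h) f0 hf0 k n hkn

omit hr in
theorem card_fun_zmod (k v : ℕ) : Nat.card (Fin k → Multiplicative (ZMod (r ^ v))) = r ^ (v * k) := by
  rw [Nat.card_fun, Nat.card_congr Multiplicative.toAdd, Nat.card_zmod, Nat.card_fin, ← pow_mul]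

theorem factorization_card_GL {n : ℕ} (hrn : n < r) (hrq : ¬ r ∣ Fintype.card F) :
    (Nat.card (GL (Fin n) F)).factorization r = phiExp r qF * (n / ordq r qF) := by
  have hq := two_le_card (F := F)
  have hterm : ∀ i : Fin n, qF ^ n - qF ^ (i : ℕ) = qF ^ (i : ℕ) * (qF ^ (n - i) - 1) := fun i => by
    rw [Nat.mul_sub, mul_one, ← pow_add, Nat.add_sub_cancel' i.2.le]
  have hne : ∀ i : Fin n, qF ^ (i : ℕ) * (qF ^ (n - i) - 1) ≠ 0 := fun i =>
    mul_ne_zero (pow_ne_zero _ (by omega)) (pow_sub_one_ne_zero hq (by omega))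
  rw [Matrix.card_GL_field, Finset.prod_congr rfl fun i _ => hterm i,
    Nat.factorization_prod (fun i _ => hne i), Finsupp.finsetSum_apply]
  have hval : ∀ i : Fin n, (qF ^ (i : ℕ) * (qF ^ (n - i) - 1)).factorization r =
      if ordq r qF ∣ n - i then phiExp r qF else 0 := fun i => by
      rw [Nat.factorization_mul (pow_ne_zero _ (by omega)) (pow_sub_one_ne_zero hq (by omega)), Finsupp.add_apply,
        factorization_q_pow hrq, zero_add, factorization_pow_sub_one hq hrq
          (Nat.not_dvd_of_pos_of_lt (by omega) (by omega))]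
  rw [Finset.sum_congr rfl fun i _ => hval i,
    Fin.sum_univ_eq_sum_range (fun i => if ordq r qF ∣ n - i then phiExp r qF else 0),
    ← Finset.sum_range_reflect, Finset.sum_congr rfl fun j hj => show
      (if ordq r qF ∣ n - (n - 1 - j) then phiExp r qF else 0) = if ordq r qF ∣ j + 1 then phiExp r qF else 0 by
        have := Finset.mem_range.1 hj
        rw [show n - (n - 1 - j) = j + 1 by omega],
    ← Finset.sum_filter, Finset.sum_const, Nat.card_multiples, smul_eq_mul, mul_comm]

theorem sylow_GL {n : ℕ} (hrn : n < r) (hrq : ¬ r ∣ Fintype.card F) (P : Sylow r (GL (Fin n) F)) :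
    Nonempty (↥(P : Subgroup (GL (Fin n) F)) ≃*
      (Fin (n / ordq r qF) → Multiplicative (ZMod (r ^ phiExp r qF)))) := by
  obtain ⟨Φ, hΦ⟩ := exists_gl_hom hrq (n / ordq r qF) n (Nat.div_mul_le_self _ _)
  exact sylow_equiv r Φ hΦ (by rw [card_fun_zmod, factorization_card_GL hrn hrq]) P

theorem card_filter_Icc_one (n d : ℕ) : ((Finset.Icc 1 n).filter (fun i => d ∣ i)).card = n / d := by
  rw [show Finset.Icc 1 n = Finset.Ioc 0 n from Finset.Icc_add_one_left_eq_Ioc 0 n,
    Nat.Ioc_filter_dvd_card_eq_div]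

theorem sylow_SL {n : ℕ} (hrn : n < r) (hrq : ¬ r ∣ Fintype.card F)
    (P : Sylow r (Matrix.SpecialLinearGroup (Fin n) F)) :
    Nonempty (↥(P : Subgroup (Matrix.SpecialLinearGroup (Fin n) F)) ≃*
      (Fin ((Finset.Icc 2 n).filter (fun i => ordq r qF ∣ i)).card →
        Multiplicative (ZMod (r ^ phiExp r qF)))) := by
  classical
  rcases Nat.eq_zero_or_pos n with rfl | hn
  · rw [show ((Finset.Icc 2 0).filter (fun i => ordq r qF ∣ i)).card = 0 by simp]
    refine sylow_equiv r 1 (Function.injective_of_subsingleton _) ?_ P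
    rw [card_fun_zmod, Nat.card_unique, Nat.factorization_one, Finsupp.zero_apply, mul_zero]
  haveI : Nonempty (Fin n) := ⟨⟨0, hn⟩⟩
  have hq := two_le_card (F := F)
  have hmul := Cfsg.Agent.Classical.card_gl_eq_units_mul_sl (n := Fin n) (R := F)
  rw [Cfsg.Agent.Classical.natCard_units_field] at hmul
  have hfac : (Nat.card (Matrix.SpecialLinearGroup (Fin n) F)).factorization r +
      (if ordq r qF ∣ 1 then phiExp r qF else 0) = phiExp r qF * (n / ordq r qF) := by
    rw [← factorization_card_GL hrn hrq, hmul, Nat.factorization_mul (by omega) Nat.card_pos.ne', Finsupp.add_apply,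
      ← factorization_pow_sub_one hq hrq hr.out.not_dvd_one, pow_one, add_comm]
  have hsplit : ((Finset.Icc 2 n).filter (fun i => ordq r qF ∣ i)).card + (if ordq r qF ∣ 1 then 1 else 0) =
      n / ordq r qF := by
    rw [← card_filter_Icc_one, ← Finset.insert_Icc_succ_left_eq_Icc (show 1 ≤ n from hn), Finset.filter_insert]
    split_ifs with h1
    · rw [Finset.card_insert_of_notMem (by simp)]; rfl
    · rfl
  set a := ((Finset.Icc 2 n).filter (fun i => ordq r qF ∣ i)).card
  clear_value a
  obtain ⟨Φ, hΦ⟩ : ∃ Φ : (Fin a → Multiplicative (ZMod (r ^ phiExp r qF))) →*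
      Matrix.SpecialLinearGroup (Fin n) F, Function.Injective Φ := by
    by_cases h1 : ordq r qF ∣ 1
    · have hd1 : ordq r qF = 1 := Nat.dvd_one.1 h1
      rw [if_pos h1, hd1, Nat.div_one] at hsplit
      subst hsplit
      have hdvd : r ^ phiExp r qF ∣ qF - 1 := by
        have := pow_phiExp_dvd (r := r) hq hrq; rwa [hd1, pow_one] at this
      obtain ⟨u, hu⟩ := IsCyclic.exists_generator (α := Fˣ)
      have huo : orderOf u = qF - 1 := by
        rw [orderOf_eq_card_of_forall_mem_zpowers hu, Cfsg.Agent.Classical.natCard_units_field]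
      obtain ⟨f, hf⟩ := exists_hom_of_dvd_orderOf (m := r ^ phiExp r qF) u (huo ▸ hdvd) (by omega)
      let D : (Fin a → Multiplicative (ZMod (r ^ phiExp r qF))) → Fin (a + 1) → Fˣ :=
        fun x => Fin.cons (∏ i, f (x i))⁻¹ (fun i => f (x i))
      have hD1 : D 1 = 1 := funext fun i => by refine Fin.cases ?_ (fun j => ?_) i <;> simp [D]
      have hDm : ∀ x y, D (x * y) = D x * D y := fun x y => funext fun i => by
        refine Fin.cases ?_ (fun j => ?_) i <;> simp [D, Finset.prod_mul_distrib, mul_comm]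
      let Φ : (Fin a → Multiplicative (ZMod (r ^ phiExp r qF))) →* Matrix.SpecialLinearGroup (Fin (a + 1)) F :=
        { toFun := fun x => ⟨Matrix.diagonal fun i => (D x i : F), by
            rw [Matrix.det_diagonal, Fin.prod_univ_succ]
            simp only [D, Fin.cons_zero, Fin.cons_succ]
            rw [← Units.coe_prod, ← Units.val_mul, inv_mul_cancel, Units.val_one]⟩
          map_one' := by ext i j; simp [hD1, Matrix.one_apply, Matrix.diagonal_apply]
          map_mul' := fun x y => by
            refine Subtype.ext ?_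
            show (Matrix.diagonal fun i => ((D (x * y) i : Fˣ) : F)) =
              (Matrix.diagonal fun i => (D x i : F)) * Matrix.diagonal fun i => (D y i : F)
            simp [hDm, Matrix.diagonal_mul_diagonal] }
      refine ⟨Φ, fun x y h => funext fun i => hf ?_⟩
      have h2 := congrFun (congrFun (congrArg Subtype.val h) i.succ) i.succ
      change (Matrix.diagonal fun j => (D x j : F)) i.succ i.succ = (Matrix.diagonal fun j => (D y j : F)) i.succ i.succ at h2
      simp only [Matrix.diagonal_apply_eq, D, Fin.cons_succ] at h2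
      exact Units.ext h2
    · rw [if_neg h1, add_zero] at hsplit
      rw [hsplit]
      obtain ⟨Φ, hΦ⟩ := exists_gl_hom hrq (n / ordq r qF) n (Nat.div_mul_le_self _ _)
      have hker : ∀ x, Φ x ∈ (Matrix.GeneralLinearGroup.det : GL (Fin n) F →* Fˣ).ker := fun x => by
        rw [MonoidHom.mem_ker, ← orderOf_eq_one_iff]
        have hd1 : orderOf (Matrix.GeneralLinearGroup.det (Φ x)) ∣ r ^ phiExp r qF := by
          refine (orderOf_map_dvd _ _).trans ((orderOf_map_dvd Φ x).trans (orderOf_dvd_of_pow_eq_one ?_))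
          funext i
          have h := pow_card_eq_one' (G := Multiplicative (ZMod (r ^ phiExp r qF))) (x := x i)
          rwa [Nat.card_congr Multiplicative.toAdd, Nat.card_zmod] at h
        have hd2 : orderOf (Matrix.GeneralLinearGroup.det (Φ x)) ∣ qF - 1 :=
          Cfsg.Agent.Classical.natCard_units_field (F := F) ▸ orderOf_dvd_natCard _
        have hcop : Nat.Coprime (r ^ phiExp r qF) (qF - 1) := Nat.Coprime.pow_left _
          (hr.out.coprime_iff_not_dvd.2 fun hd => h1 (by
            rwa [← dvd_pow_sub_one_iff (r := r) (by omega) 1, pow_one]))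
        exact Nat.dvd_one.1 (hcop ▸ Nat.dvd_gcd hd1 hd2)
      refine ⟨(Cfsg.Agent.Classical.slEquivKerDet (n := Fin n) (R := F)).symm.toMonoidHom.comp (Φ.codRestrict _ hker),
        fun x y h => hΦ ?_⟩
      exact congrArg Subtype.val ((Cfsg.Agent.Classical.slEquivKerDet (n := Fin n) (R := F)).symm.injective h)
  refine sylow_equiv r Φ hΦ ?_ P
  rw [card_fun_zmod]
  congr 1
  rw [← hsplit, mul_add] at hfac
  by_cases h1 : ordq r qF ∣ 1
  · simp only [if_pos h1, mul_one] at hfac
    omega
  · simp only [if_neg h1, mul_zero, add_zero] at hfac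
    omega

theorem sylow_Sp {n : ℕ} (hr2 : r ≠ 2) (hrn : n < r) (hrq : ¬ r ∣ Fintype.card F)
    (P : Sylow r ↥(Matrix.symplecticGroup (Fin n) F)) :
    Nonempty (↥(P : Subgroup ↥(Matrix.symplecticGroup (Fin n) F)) ≃*
      (Fin ((Finset.Icc 1 n).filter (fun i => ordq r qF ∣ 2 * i)).card →
        Multiplicative (ZMod (r ^ phiExp r qF)))) := by
  classical
  have hq := two_le_card (F := F)
  set a := ((Finset.Icc 1 n).filter (fun i => ordq r qF ∣ 2 * i)).card with ha
  have hfac : (Nat.card ↥(Matrix.symplecticGroup (Fin n) F)).factorization r = phiExp r qF * a := by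
    have hne : ∀ i : ℕ, qF ^ (2 * (i + 1)) - 1 ≠ 0 := fun i => pow_sub_one_ne_zero hq (by omega)
    rw [CfsgLib.Sp.card_symplecticGroup rfl, Nat.factorization_mul (pow_ne_zero _ (by omega))
      (Finset.prod_ne_zero_iff.2 fun i _ => hne i), Finsupp.add_apply, factorization_q_pow hrq, zero_add,
      Nat.factorization_prod (fun i _ => hne i), Finsupp.finsetSum_apply,
      Finset.sum_congr rfl fun i hi => show _ = (if ordq r qF ∣ 2 * (i + 1) then phiExp r qF else 0) from
        factorization_pow_sub_one hq hrq fun hd => by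
          have := Finset.mem_range.1 hi
          rcases hr.out.dvd_mul.1 hd with h | h
          · exact hr2 ((Nat.prime_dvd_prime_iff_eq hr.out Nat.prime_two).1 h)
          · exact Nat.not_dvd_of_pos_of_lt (by omega) (by omega) h,
      ← Finset.sum_filter, Finset.sum_const, smul_eq_mul, mul_comm]
    congr 1
    refine Finset.card_bij (fun i _ => i + 1) (fun i hi => ?_) (fun i _ j _ h => by omega) (fun b hb => ?_)
    · simp only [Finset.mem_filter, Finset.mem_range, Finset.mem_Icc] at hi ⊢
      exact ⟨by omega, hi.2⟩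
    · simp only [Finset.mem_filter, Finset.mem_range, Finset.mem_Icc] at hb ⊢
      exact ⟨b - 1, ⟨by omega, by rw [Nat.sub_add_cancel hb.1.1]; exact hb.2⟩, by omega⟩
  obtain ⟨Φ, hΦ⟩ : ∃ Φ : (Fin a → Multiplicative (ZMod (r ^ phiExp r qF))) →*
      ↥(Matrix.symplecticGroup (Fin n) F), Function.Injective Φ := by
    rcases Nat.even_or_odd (ordq r qF) with ⟨e, he⟩ | hodd
    · have he1 : 1 ≤ e := by have := ordq_pos (r := r) hrq; omega
      have hae : a = n / e := by
        rw [ha, ← card_filter_Icc_one n e]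
        congr 1
        refine Finset.filter_congr fun i _ => ?_
        rw [he, ← two_mul, Nat.mul_dvd_mul_iff_left (by norm_num : 0 < 2)]
      obtain ⟨T, hT⟩ := exists_torus_plus_any (F := F) he1
      have hdvd : r ^ phiExp r qF ∣ qF ^ e + 1 := by
        have h1 : r ^ phiExp r qF ∣ (qF ^ e + 1) * (qF ^ e - 1) := by
          rw [← Nat.sq_sub_sq, one_pow, ← pow_mul, mul_comm e 2, two_mul, ← he]
          exact pow_phiExp_dvd hq hrq
        refine (Nat.Coprime.dvd_of_dvd_mul_right ?_ h1)
        refine Nat.Coprime.pow_left _ (hr.out.coprime_iff_not_dvd.2 fun hd => ?_)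
        have := Nat.le_of_dvd (by omega) ((dvd_pow_sub_one_iff (r := r) (by omega) e).1 hd)
        omega
      obtain ⟨f, hf⟩ := exists_hom_of_dvd_orderOf (m := r ^ phiExp r qF) T (hT ▸ hdvd) (by omega)
      exact exists_iterate (Gf := fun n => ↥(Matrix.symplecticGroup (Fin n) F))
        (fun h => CfsgLib.SpecSp.bsum h) (fun h => bsum_injective h) f hf a n (hae ▸ Nat.div_mul_le_self _ _)
    · have hae : a = n / ordq r qF := by
        rw [ha, ← card_filter_Icc_one n (ordq r qF)]
        congr 1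
        refine Finset.filter_congr fun i _ => ⟨fun h => ?_, fun h => h.mul_left 2⟩
        exact (Nat.Coprime.dvd_of_dvd_mul_left (Nat.coprime_two_right.2 hodd) h)
      obtain ⟨Φ, hΦ⟩ := exists_gl_hom hrq a n (hae ▸ Nat.div_mul_le_self _ _)
      exact ⟨(CfsgLib.SpecSp.glEmb n).comp Φ, (CfsgLib.SpecSp.glEmb_injective n).comp hΦ⟩
  exact sylow_equiv r Φ hΦ (by rw [card_fun_zmod, hfac]) P

end Groups

end CfsgLib.SylowTorus
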